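import Mathlib

/-!
# Chains of primes through partial systems of parameters
-/

set_option autoImplicit false
universe u

noncomputable section

namespace Groth.Agent.SopLenLib

open IsLocalRing

variable {R : Type u} [CommRing R]

theorem le_dim_quot_of_series (p : Ideal R) (l : LTSeries (PrimeSpectrum R)) (h : p ≤ l.head.asIdeal) :
    (l.length : WithBot ℕ∞) ≤ ringKrullDim (R ⧸ p) := by
  rw [ringKrullDim_quotient]
  refine Order.le_krullDim_iff.2 ⟨LTSeries.mk l.length
    (fun i => ⟨l i, h.trans (l.head_le i)⟩) (fun i j hij => l.strictMono hij), rfl⟩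

theorem exists_series_of_le_dim_quot (p : Ideal R) {n : ℕ} (h : (n : WithBot ℕ∞) ≤ ringKrullDim (R ⧸ p)) :
    ∃ l : LTSeries (PrimeSpectrum R), l.length = n ∧ p ≤ l.head.asIdeal := by
  rw [ringKrullDim_quotient] at h
  obtain ⟨l, hl⟩ := Order.le_krullDim_iff.1 h
  exact ⟨l.map Subtype.val (fun _ _ h => h), hl, (l.head).2⟩

variable [IsLocalRing R] [IsNoetherianRing R]

/-- `k` elements cutting `R ⧸ J` down to dimension zero bound its dimension. -/
theorem dim_quot_le (J : Ideal R) (hJ : J ≤ maximalIdeal R) {k : ℕ} (a : Fin k → R)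
    (ha : ∀ i, a i ∈ maximalIdeal R) (h : maximalIdeal R ≤ (J ⊔ Ideal.span (Set.range a)).radical) :
    ringKrullDim (R ⧸ J) ≤ k := by
  have hne : J ≠ ⊤ := fun e => (maximalIdeal.isMaximal R).ne_top (top_le_iff.1 (e ▸ hJ))
  haveI : Nontrivial (R ⧸ J) := Ideal.Quotient.nontrivial_iff.2 hne
  haveI : IsLocalRing (R ⧸ J) := IsLocalRing.of_surjective' (Ideal.Quotient.mk J) Ideal.Quotient.mk_surjective
  rw [← IsLocalRing.maximalIdeal_height_eq_ringKrullDim]
  let a' : Fin k → R ⧸ J := fun i => Ideal.Quotient.mk J (a i)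
  have hmem : ∀ i, a' i ∈ maximalIdeal (R ⧸ J) := fun i => by
    rw [mem_maximalIdeal]
    intro hu
    obtain ⟨c, hc⟩ := hu.exists_right_inv
    obtain ⟨c, rfl⟩ := Ideal.Quotient.mk_surjective c
    rw [← map_mul, ← sub_eq_zero, ← map_one (Ideal.Quotient.mk J), ← map_sub, Ideal.Quotient.eq_zero_iff_mem] at hc
    exact (maximalIdeal.isMaximal R).ne_top ((Ideal.eq_top_iff_one _).2 <| by
      simpa using sub_mem (Ideal.mul_mem_right c _ (ha i)) (hJ hc))
  have hmin : maximalIdeal (R ⧸ J) ∈ (Ideal.span (Set.range a')).minimalPrimes := by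
    refine ⟨⟨inferInstance, Ideal.span_le.2 (Set.range_subset_iff.2 hmem)⟩, fun P hP _ => ?_⟩
    haveI := hP.1
    haveI : (P.comap (Ideal.Quotient.mk J)).IsPrime := Ideal.IsPrime.comap _
    have h1 : maximalIdeal R ≤ P.comap (Ideal.Quotient.mk J) := by
      refine h.trans ((Ideal.IsPrime.radical_le_iff inferInstance).2 (sup_le (fun x hx => ?_) (Ideal.span_le.2 ?_)))
      · rw [Ideal.mem_comap, Ideal.Quotient.eq_zero_iff_mem.2 hx]
        exact zero_mem P
      · rintro x ⟨i, rfl⟩
        exact hP.2 (Ideal.subset_span ⟨i, rfl⟩)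
    intro x hx
    obtain ⟨y, rfl⟩ := Ideal.Quotient.mk_surjective x
    exact h1 ((mem_maximalIdeal y).2 fun hy => (mem_maximalIdeal _).1 hx (hy.map _))
  have h2 := (Ideal.height_le_card_of_mem_minimalPrimes_span (Set.finite_range a') hmin).trans
    (Nat.cast_le.2 (show (Set.range a').ncard ≤ k from (Nat.card_coe_set_eq _).symm.trans_le
      ((Finite.card_range_le a').trans_eq (Nat.card_fin k))))
  exact_mod_cast h2

omit [IsNoetherianRing R] in
theorem maximalIdeal_ge (p : PrimeSpectrum R) : p.asIdeal ≤ maximalIdeal R := le_maximalIdeal p.isPrime.ne_top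

/-- A chain from `p` to a nonmaximal prime containing the elements, of length their number. -/
theorem exists_chain : ∀ (k : ℕ) (p : PrimeSpectrum R) (b : R) (a : Fin k → R), b ∈ maximalIdeal R →
    (∀ i, a i ∈ maximalIdeal R) →
    maximalIdeal R ≤ (p.asIdeal ⊔ Ideal.span (Set.range (Fin.cons b a : Fin (k + 1) → R))).radical →
    ((k + 1 : ℕ) : WithBot ℕ∞) ≤ ringKrullDim (R ⧸ p.asIdeal) →
    ∃ l : LTSeries (PrimeSpectrum R), l.length = k ∧ l.head = p ∧ l.last.asIdeal ≠ maximalIdeal R ∧
      ∀ i, a i ∈ l.last.asIdeal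
  | 0, p, b, a, _, _, _, hd => by
    refine ⟨RelSeries.singleton _ p, rfl, rfl, fun he => ?_, fun i => i.elim0⟩
    change p.asIdeal = _ at he
    have h0 := dim_quot_le p.asIdeal (maximalIdeal_ge p) (k := 0) Fin.elim0 (fun i => i.elim0)
      (by rw [he]; exact le_sup_left.trans Ideal.le_radical)
    have := hd.trans h0
    norm_cast at this
  | k + 1, p, b, a, hb, ha, h, hd => by
    classical
    have hsplit : Ideal.span (Set.range (Fin.cons b a : Fin (k + 2) → R)) ≤
        Ideal.span {a 0} ⊔ Ideal.span (Set.range (Fin.cons b (Fin.tail a) : Fin (k + 1) → R)) := by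
      rw [Ideal.span_le]
      rintro x ⟨i, rfl⟩
      refine Fin.cases ?_ (fun j => ?_) i
      · exact Ideal.mem_sup_right (Ideal.subset_span ⟨0, rfl⟩)
      · rw [Fin.cons_succ]
        refine Fin.cases ?_ (fun j' => ?_) j
        · exact Ideal.mem_sup_left (Ideal.subset_span rfl)
        · exact Ideal.mem_sup_right (Ideal.subset_span ⟨j'.succ, rfl⟩)
    have hbt : ∀ i, (Fin.cons b (Fin.tail a) : Fin (k + 1) → R) i ∈ maximalIdeal R :=
      fun i => Fin.cases hb (fun j => ha j.succ) i
    have hI : p.asIdeal ⊔ Ideal.span {a 0} ≤ maximalIdeal R :=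
      sup_le (maximalIdeal_ge p) ((Ideal.span_singleton_le_iff_mem _).2 (ha 0))
    have h' : maximalIdeal R ≤ ((p.asIdeal ⊔ Ideal.span {a 0}) ⊔
        Ideal.span (Set.range (Fin.cons b (Fin.tail a) : Fin (k + 1) → R))).radical := by
      rw [sup_assoc]
      exact h.trans (Ideal.radical_mono (sup_le_sup_left hsplit _))
    have ha0 : a 0 ∉ p.asIdeal := fun h0 => by
      rw [sup_eq_left.2 ((Ideal.span_singleton_le_iff_mem _).2 h0)] at h'
      have := hd.trans (dim_quot_le p.asIdeal (maximalIdeal_ge p) _ hbt h')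
      norm_cast at this
      omega
    -- cut by `a 0`
    haveI : Nontrivial (R ⧸ p.asIdeal) := Ideal.Quotient.nontrivial_iff.2 p.isPrime.ne_top
    haveI : IsLocalRing (R ⧸ p.asIdeal) :=
      IsLocalRing.of_surjective' (Ideal.Quotient.mk p.asIdeal) Ideal.Quotient.mk_surjective
    have hcut : ringKrullDim (R ⧸ p.asIdeal) ≤ ringKrullDim (R ⧸ p.asIdeal ⊔ Ideal.span {a 0}) + 1 := by
      have hj : ({Ideal.Quotient.mk p.asIdeal (a 0)} : Set (R ⧸ p.asIdeal)) ⊆ Ring.jacobson (R ⧸ p.asIdeal) := by
        rw [Set.singleton_subset_iff, SetLike.mem_coe, IsLocalRing.ringJacobson_eq_maximalIdeal, mem_maximalIdeal]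
        intro hu
        obtain ⟨c, hc⟩ := hu.exists_right_inv
        obtain ⟨c, rfl⟩ := Ideal.Quotient.mk_surjective c
        rw [← map_mul, ← sub_eq_zero, ← map_one (Ideal.Quotient.mk p.asIdeal), ← map_sub,
          Ideal.Quotient.eq_zero_iff_mem] at hc
        exact (maximalIdeal.isMaximal R).ne_top ((Ideal.eq_top_iff_one _).2 <| by
          simpa using sub_mem (Ideal.mul_mem_right c _ (ha 0)) (maximalIdeal_ge p hc))
      have h1 := ringKrullDim_le_ringKrullDim_quotient_add_encard _ hj
      rw [Set.encard_singleton] at h1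
      have e : (R ⧸ p.asIdeal) ⧸ Ideal.span {Ideal.Quotient.mk p.asIdeal (a 0)} ≃+*
          R ⧸ p.asIdeal ⊔ Ideal.span {a 0} :=
        (Ideal.quotEquivOfEq (by rw [Ideal.map_span, Set.image_singleton])).trans
          (DoubleQuot.quotQuotEquivQuotSup p.asIdeal (Ideal.span {a 0}))
      rw [ringKrullDim_eq_of_ringEquiv e] at h1
      exact_mod_cast h1
    have hd1 : ((k + 1 : ℕ) : WithBot ℕ∞) ≤ ringKrullDim (R ⧸ p.asIdeal ⊔ Ideal.span {a 0}) := by
      have h3 := hd.trans hcut
      rw [Nat.cast_succ] at h3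
      revert h3
      cases ringKrullDim (R ⧸ p.asIdeal ⊔ Ideal.span {a 0}) with
      | bot => intro h3; simp at h3
      | coe x =>
        intro h3
        norm_cast at h3 ⊢
        cases x with
        | top => exact le_top
        | coe x => norm_cast at h3 ⊢; omega
    obtain ⟨l0, hl0, hP⟩ := exists_series_of_le_dim_quot _ hd1
    have hpP : p < l0.head := lt_of_le_of_ne (le_sup_left.trans hP) fun e => ha0 (by
      rw [e]; exact hP (Ideal.mem_sup_right (Ideal.subset_span rfl)))
    obtain ⟨l, hl, hhead, hlast, hmem⟩ := exists_chain k l0.head b (Fin.tail a) hb (fun i => ha i.succ)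
      (h'.trans (Ideal.radical_mono (sup_le_sup_right hP _)))
      (hl0 ▸ le_dim_quot_of_series _ l0 le_rfl)
    refine ⟨l.cons p (show p < l.head from hhead ▸ hpP), ?_, RelSeries.head_cons .., ?_, fun i => ?_⟩
    · rw [RelSeries.cons_length, hl]
    · rwa [RelSeries.last_cons]
    · rw [RelSeries.last_cons]
      refine Fin.cases ?_ (fun j => hmem j) i
      exact (l.head_le (Fin.last _)) (hhead ▸ hP (Ideal.mem_sup_right (Ideal.subset_span rfl)))

/-- The dimension of a local ring at a prime through a chain. -/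
theorem le_dim_localization_quot (q : PrimeSpectrum R) (p : Ideal R) (l : LTSeries (PrimeSpectrum R))
    (hp : p ≤ l.head.asIdeal) (hq : l.last = q) :
    (l.length : WithBot ℕ∞) ≤
      ringKrullDim (Localization.AtPrime q.asIdeal ⧸ p.map (algebraMap R (Localization.AtPrime q.asIdeal))) := by
  let e := IsLocalization.AtPrime.primeSpectrumOrderIso (Localization.AtPrime q.asIdeal) q.asIdeal
  let l' : LTSeries (PrimeSpectrum (Localization.AtPrime q.asIdeal)) :=
    LTSeries.mk l.length (fun i => e.symm ⟨l i, Set.mem_Iic.2 ((l.monotone (Fin.le_last i)).trans hq.le)⟩)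
      (fun i j hij => e.symm.strictMono (l.strictMono hij))
  refine le_dim_quot_of_series _ l' (Ideal.map_le_iff_le_comap.2 ?_)
  have h0 : (e l'.head).1 = l.head := by
    show (e (e.symm _)).1 = _
    rw [OrderIso.apply_symm_apply]
    rfl
  intro x hx
  have : x ∈ (e l'.head).1.asIdeal := by rw [h0]; exact hp hx
  exact this

end Groth.Agent.SopLenLib
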