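import Mathlib
import Groth.Agent.SopLenLib.Chain

/-!
# Counting top dimensional primes by colengths of parameter ideals
-/

set_option autoImplicit false
set_option maxHeartbeats 1000000
universe u

noncomputable section

namespace Groth.Agent.SopLenLib

open IsLocalRing

variable {R : Type u} [CommRing R]

/-- Kernel of multiplication by `g`. -/
abbrev mulKer (g : R) (N : Type u) [AddCommGroup N] [Module R N] : Submodule R N :=
  LinearMap.ker (LinearMap.lsmul R N g)

/-- Image of multiplication by `g`. -/
abbrev mulRange (g : R) (N : Type u) [AddCommGroup N] [Module R N] : Submodule R N :=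
  LinearMap.range (LinearMap.lsmul R N g)

theorem length_eq_range_add {A B C : Type u} [AddCommGroup A] [AddCommGroup B] [AddCommGroup C] [Module R A]
    [Module R B] [Module R C] {f : A →ₗ[R] B} {g : B →ₗ[R] C} (h : Function.Exact f g) :
    Module.length R B = Module.length R (LinearMap.range f) + Module.length R (LinearMap.range g) :=
  Module.length_eq_add_of_exact (LinearMap.range f).subtype g.rangeRestrict (Submodule.subtype_injective _)
    (LinearMap.surjective_rangeRestrict g) (LinearMap.exact_iff.2 (by
      rw [LinearMap.ker_rangeRestrict, Submodule.range_subtype]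
      exact h.linearMap_ker_eq))

/-- Kernels and cokernels of a scalar along a short exact sequence. -/
theorem length_six (g : R) {A B C : Type u} [AddCommGroup A] [AddCommGroup B] [AddCommGroup C] [Module R A]
    [Module R B] [Module R C] (f : A →ₗ[R] B) (h : B →ₗ[R] C) (hf : Function.Injective f)
    (hh : Function.Surjective h) (hfh : Function.Exact f h) :
    Module.length R (B ⧸ mulRange g B) + (Module.length R (mulKer g A) + Module.length R (mulKer g C)) =
      Module.length R (mulKer g B) + (Module.length R (A ⧸ mulRange g A) + Module.length R (C ⧸ mulRange g C)) := by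
  let F1 : mulKer g A →ₗ[R] mulKer g B := f.restrict fun x hx => by
    simp only [LinearMap.mem_ker, LinearMap.lsmul_apply] at hx ⊢
    rw [← map_smul, hx, map_zero]
  let F : mulKer g B →ₗ[R] mulKer g C := h.restrict fun x hx => by
    simp only [LinearMap.mem_ker, LinearMap.lsmul_apply] at hx ⊢
    rw [← map_smul, hx, map_zero]
  let G : (A ⧸ mulRange g A) →ₗ[R] (B ⧸ mulRange g B) := Submodule.mapQ _ _ f (by
    rintro _ ⟨x, rfl⟩
    exact ⟨f x, (map_smul f g x).symm⟩)
  let H : (B ⧸ mulRange g B) →ₗ[R] (C ⧸ mulRange g C) := Submodule.mapQ _ _ h (by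
    rintro _ ⟨x, rfl⟩
    exact ⟨h x, (map_smul h g x).symm⟩)
  have h1 : f.comp (LinearMap.lsmul R A g) = (LinearMap.lsmul R B g).comp f := LinearMap.ext fun x => map_smul f g x
  have h2 : h.comp (LinearMap.lsmul R B g) = (LinearMap.lsmul R C g).comp h := LinearMap.ext fun x => map_smul h g x
  let δ := SnakeLemma.δ' (LinearMap.lsmul R A g) (LinearMap.lsmul R B g) (LinearMap.lsmul R C g) f h hfh f h hfh h1 h2
    (mulKer g C).subtype (LinearMap.exact_subtype_ker_map _) (mulRange g A).mkQ (LinearMap.exact_map_mkQ_range _) hh hf
  have eF : Function.Exact F δ := SnakeLemma.exact_δ'_right _ _ _ f h hfh f h hfh h1 h2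
    (mulKer g B).subtype (LinearMap.exact_subtype_ker_map _) _ _ _ _ hh hf F rfl (Submodule.subtype_injective _)
  have eG : Function.Exact δ G := SnakeLemma.exact_δ'_left _ _ _ f h hfh f h hfh h1 h2
    _ _ _ _ (mulRange g B).mkQ (LinearMap.exact_map_mkQ_range _) hh hf G rfl (Submodule.mkQ_surjective _)
  have eH : Function.Exact G H := fun y => by
    constructor
    · obtain ⟨b, rfl⟩ := Submodule.Quotient.mk_surjective _ y
      intro hy
      obtain ⟨c, hc⟩ := (Submodule.Quotient.mk_eq_zero _).1 hy
      obtain ⟨b', rfl⟩ := hh c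
      simp only [LinearMap.lsmul_apply] at hc
      obtain ⟨a, ha⟩ := (hfh (b - g • b')).1 (by rw [map_sub, map_smul, hc, sub_self])
      refine ⟨Submodule.Quotient.mk a, (Submodule.Quotient.eq _).2 ⟨-b', ?_⟩⟩
      show g • -b' = f a - b
      rw [ha, smul_neg]
      abel
    · rintro ⟨x, rfl⟩
      obtain ⟨a, rfl⟩ := Submodule.Quotient.mk_surjective _ x
      show Submodule.Quotient.mk (h (f a)) = 0
      rw [hfh.apply_apply_eq_zero]
      exact Submodule.Quotient.mk_zero _
  have hH : Function.Surjective H := fun y => by
    obtain ⟨c, rfl⟩ := Submodule.Quotient.mk_surjective _ y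
    obtain ⟨b, rfl⟩ := hh c
    exact ⟨Submodule.Quotient.mk b, rfl⟩
  have hF1 : Function.Injective F1 := fun x y hxy => Subtype.ext (hf (congrArg Subtype.val hxy))
  have eF1 : Function.Exact F1 F := fun y => by
    constructor
    · intro hy
      obtain ⟨a, ha⟩ := (hfh y.1).1 (congrArg Subtype.val hy)
      exact ⟨⟨a, LinearMap.mem_ker.2 (hf (by rw [LinearMap.lsmul_apply, map_smul, ha, map_zero]; exact y.2))⟩, Subtype.ext ha⟩
    · rintro ⟨x, rfl⟩
      exact Subtype.ext (hfh.apply_apply_eq_zero x.1)
  rw [length_eq_range_add eF1, length_eq_range_add eH, length_eq_range_add eG, length_eq_range_add eF,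
    (LinearEquiv.ofInjective F1 hF1).length_eq, LinearMap.range_eq_top.2 hH, Module.length_top]
  ac_rfl

variable [IsNoetherianRing R] [IsLocalRing R]

/-- A finite module killed by an ideal primary to the maximal ideal has finite length. -/
theorem length_ne_top_of_annihilator (I : Ideal R) (hI : maximalIdeal R ≤ I.radical)
    (N : Type u) [AddCommGroup N] [Module R N] [Module.Finite R N] :
    I ≤ Module.annihilator R N → Module.length R N ≠ ⊤ := by
  induction (inferInstance : Module.Finite R N) using IsNoetherianRing.induction_on_isQuotientEquivQuotientPrime R with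
  | subsingleton N => intro; rw [Module.length_eq_zero]; exact ENat.zero_ne_top
  | quotient N P e =>
    intro hann
    rw [e.length_eq]
    have hIP : I ≤ P.asIdeal := by
      rw [← Ideal.annihilator_quotient (I := P.asIdeal), ← e.annihilator_eq]
      exact hann
    have hP : P.asIdeal = maximalIdeal R :=
      le_antisymm (maximalIdeal_ge P) (hI.trans ((Ideal.IsPrime.radical_le_iff P.isPrime).2 hIP))
    haveI : IsSimpleModule R (R ⧸ P.asIdeal) := isSimpleModule_iff_isCoatom.2
      (hP ▸ (maximalIdeal.isMaximal R).out)
    rw [Module.length_eq_one]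
    exact ENat.one_ne_top
  | exact N1 N2 N3 f h hf hh hfh ih1 ih3 =>
    intro hann
    rw [Module.length_eq_add_of_exact f h hf hh hfh]
    exact WithTop.add_ne_top.2 ⟨ih1 (hann.trans (f.annihilator_le_of_injective hf)),
      ih3 (hann.trans (h.annihilator_le_of_surjective hh))⟩

/-- The sum of the generic lengths at the given primes. -/
def genLen (Q : Finset (PrimeSpectrum R)) (N : Type u) [AddCommGroup N] [Module R N] : ℕ∞ :=
  ∑ q ∈ Q, Module.length (Localization.AtPrime q.asIdeal) (LocalizedModule q.asIdeal.primeCompl N)

omit [IsNoetherianRing R] [IsLocalRing R] in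
theorem genLen_add (Q : Finset (PrimeSpectrum R)) {A B C : Type u} [AddCommGroup A] [AddCommGroup B] [AddCommGroup C]
    [Module R A] [Module R B] [Module R C] (f : A →ₗ[R] B) (h : B →ₗ[R] C) (hf : Function.Injective f)
    (hh : Function.Surjective h) (hfh : Function.Exact f h) : genLen Q B = genLen Q A + genLen Q C := by
  rw [genLen, genLen, genLen, ← Finset.sum_add_distrib]
  exact Finset.sum_congr rfl fun q _ => Module.length_eq_add_of_exact (LocalizedModule.map q.asIdeal.primeCompl f)
    (LocalizedModule.map q.asIdeal.primeCompl h) (LocalizedModule.map_injective _ f hf)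
    (LocalizedModule.map_surjective _ h hh) (LocalizedModule.map_exact _ f h hfh)

omit [IsNoetherianRing R] [IsLocalRing R] in
theorem length_residue_le_one (P : PrimeSpectrum R) :
    Module.length (Localization.AtPrime P.asIdeal) (LocalizedModule P.asIdeal.primeCompl (R ⧸ P.asIdeal)) ≤ 1 := by
  let Rp := Localization.AtPrime P.asIdeal
  let M := LocalizedModule P.asIdeal.primeCompl (R ⧸ P.asIdeal)
  let φ : Rp →ₗ[Rp] M := LinearMap.toSpanSingleton Rp M (LocalizedModule.mk (Submodule.Quotient.mk (p := P.asIdeal) (1 : R)) 1)
  have hsurj : Function.Surjective φ := fun y => by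
    induction y using LocalizedModule.induction_on with
    | h x s =>
      obtain ⟨a, rfl⟩ := Submodule.Quotient.mk_surjective _ x
      refine ⟨IsLocalization.mk' Rp a s, ?_⟩
      show IsLocalization.mk' Rp a s • LocalizedModule.mk (Submodule.Quotient.mk (p := P.asIdeal) (1 : R)) (1 : P.asIdeal.primeCompl) = _
      rw [← Localization.mk_eq_mk', LocalizedModule.mk_smul_mk, mul_one, ← Submodule.Quotient.mk_smul, smul_eq_mul, mul_one]
  have hker : maximalIdeal Rp ≤ LinearMap.ker φ := by
    rw [← Localization.AtPrime.map_eq_maximalIdeal, Ideal.map_le_iff_le_comap]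
    intro a ha
    show algebraMap R Rp a • LocalizedModule.mk (Submodule.Quotient.mk (p := P.asIdeal) (1 : R)) (1 : P.asIdeal.primeCompl) = (0 : M)
    rw [algebraMap_smul, LocalizedModule.smul'_mk, ← Submodule.Quotient.mk_smul,
      (Submodule.Quotient.mk_eq_zero _).2 (by simpa using ha)]
    exact LocalizedModule.zero_mk _
  haveI : IsSimpleModule Rp (Rp ⧸ maximalIdeal Rp) := isSimpleModule_iff_isCoatom.2 (maximalIdeal.isMaximal Rp).out
  exact (Module.length_le_of_surjective (Submodule.liftQ (maximalIdeal Rp) φ hker)
    (fun y => (hsurj y).elim fun x hx => ⟨Submodule.Quotient.mk x, hx⟩)).trans_eq (Module.length_eq_one _ _)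

/-- Multiplicity bound in dimension one. -/
theorem genLen_le (g : R) (J : Ideal R) (hg : g ∈ maximalIdeal R) (hJ : maximalIdeal R ≤ (J ⊔ Ideal.span {g}).radical)
    (Q : Finset (PrimeSpectrum R)) (hQ : ∀ q ∈ Q, q.asIdeal ≠ maximalIdeal R)
    (hQ' : ∀ q ∈ Q, ∀ P : PrimeSpectrum R, J ≤ P.asIdeal → P ≤ q → P = q)
    (N : Type u) [AddCommGroup N] [Module R N] [Module.Finite R N] : J ≤ Module.annihilator R N →
    Module.length R (mulKer g N) + genLen Q N ≤ Module.length R (N ⧸ mulRange g N) := by
  induction (inferInstance : Module.Finite R N) using IsNoetherianRing.induction_on_isQuotientEquivQuotientPrime R with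
  | subsingleton N =>
    intro _
    rw [Module.length_eq_zero, zero_add, genLen, Finset.sum_eq_zero fun q _ => Module.length_eq_zero]
    exact zero_le
  | quotient N P e =>
    intro hann
    have hJP : J ≤ P.asIdeal := by
      rw [← Ideal.annihilator_quotient (I := P.asIdeal), ← e.annihilator_eq]
      exact hann
    have hann' : Module.annihilator R N = P.asIdeal := e.annihilator_eq.trans Ideal.annihilator_quotient
    by_cases hgP : g ∈ P.asIdeal
    · -- the closed point
      have hPm : P.asIdeal = maximalIdeal R := le_antisymm (maximalIdeal_ge P)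
        (hJ.trans ((Ideal.IsPrime.radical_le_iff P.isPrime).2 (sup_le hJP ((Ideal.span_singleton_le_iff_mem _).2 hgP))))
      have h0 : ∀ x : N, g • x = 0 := Module.mem_annihilator.1 (hann' ▸ hgP)
      have hk : mulKer g N = ⊤ := eq_top_iff.2 fun x _ => h0 x
      have hr : mulRange g N = ⊥ := eq_bot_iff.2 (by rintro _ ⟨x, rfl⟩; exact h0 x)
      have hgen : genLen Q N = 0 := Finset.sum_eq_zero fun q hq => by
        obtain ⟨t, htm, htq⟩ := SetLike.not_le_iff_exists.1 (fun hle => hQ q hq
          (le_antisymm (maximalIdeal_ge q) hle) : ¬ maximalIdeal R ≤ q.asIdeal)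
        haveI : Subsingleton (LocalizedModule q.asIdeal.primeCompl N) :=
          LocalizedModule.subsingleton_iff.2 fun x =>
            ⟨t, htq, Module.mem_annihilator.1 (hann' ▸ hPm ▸ htm) x⟩
        exact Module.length_eq_zero
      rw [hgen, add_zero, hk, hr, Module.length_top, (Submodule.quotEquivOfEqBot _ rfl).length_eq]
    · have hk : mulKer g N = ⊥ := eq_bot_iff.2 fun x hx => by
        have hx' : g • e x = 0 := by rw [← map_smul, show g • x = 0 from hx, map_zero]
        obtain ⟨a, ha⟩ := Submodule.Quotient.mk_surjective _ (e x)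
        rw [← ha, ← Submodule.Quotient.mk_smul, Submodule.Quotient.mk_eq_zero, smul_eq_mul] at hx'
        rw [Submodule.mem_bot, ← e.map_eq_zero_iff, ← ha, Submodule.Quotient.mk_eq_zero]
        exact (P.isPrime.mem_or_mem hx').resolve_left hgP
      haveI : Nontrivial (N ⧸ mulRange g N) := Submodule.Quotient.nontrivial_iff.2 fun htop => by
        haveI : Nontrivial N := by
          haveI : Nontrivial (R ⧸ P.asIdeal) := Ideal.Quotient.nontrivial_iff.2 P.isPrime.ne_top
          exact e.toEquiv.nontrivial
        refine (Submodule.top_ne_ideal_smul_of_le_jacobson_annihilator (I := Ideal.span {g}) (M := N) ?_) ?_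
        · rw [Ideal.span_le, Set.singleton_subset_iff, SetLike.mem_coe]
          exact maximalIdeal_le_jacobson _ hg
        · refine le_antisymm (htop.ge.trans ?_) le_top
          rintro _ ⟨x, rfl⟩
          exact Submodule.smul_mem_smul (Ideal.subset_span rfl) Submodule.mem_top
      rw [hk, Module.length_bot, zero_add]
      refine le_trans ?_ (Order.one_le_iff_pos.2 Module.length_pos : (1 : ℕ∞) ≤ _)
      rw [genLen]
      have hz : ∀ q ∈ Q, q ≠ P → Module.length (Localization.AtPrime q.asIdeal)
          (LocalizedModule q.asIdeal.primeCompl N) = 0 := fun q hq hne => by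
        obtain ⟨t, htP, htq⟩ := SetLike.not_le_iff_exists.1 (fun hle => hne (hQ' q hq P hJP hle).symm :
          ¬ P.asIdeal ≤ q.asIdeal)
        haveI : Subsingleton (LocalizedModule q.asIdeal.primeCompl N) :=
          LocalizedModule.subsingleton_iff.2 fun x => ⟨t, htq, Module.mem_annihilator.1 (hann' ▸ htP) x⟩
        exact Module.length_eq_zero
      by_cases hPQ : P ∈ Q
      · rw [Finset.sum_eq_single P (fun q hq hne => hz q hq hne) (fun h => absurd hPQ h)]
        let eP := IsLocalizedModule.mapEquiv P.asIdeal.primeCompl
          (LocalizedModule.mkLinearMap P.asIdeal.primeCompl N)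
          (LocalizedModule.mkLinearMap P.asIdeal.primeCompl (R ⧸ P.asIdeal))
          (Localization.AtPrime P.asIdeal) e
        rw [eP.length_eq]
        exact length_residue_le_one P
      · rw [Finset.sum_eq_zero fun q hq => hz q hq (fun h => hPQ (h ▸ hq))]
        exact zero_le
  | exact N1 N2 N3 f h hf hh hfh ih1 ih3 =>
    intro hann
    have a1 := ih1 (hann.trans (f.annihilator_le_of_injective hf))
    have a3 := ih3 (hann.trans (h.annihilator_le_of_surjective hh))
    have hfin : ∀ (M : Type u) [AddCommGroup M] [Module R M] [Module.Finite R M], J ≤ Module.annihilator R M →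
        Module.length R (mulKer g M) ≠ ⊤ := fun M _ _ _ hM =>
      length_ne_top_of_annihilator _ hJ _ (sup_le (hM.trans ((mulKer g M).subtype.annihilator_le_of_injective
        (Submodule.subtype_injective _))) ((Ideal.span_singleton_le_iff_mem _).2
          (Module.mem_annihilator.2 fun x => Subtype.ext x.2)))
    have hne : Module.length R (mulKer g N1) + Module.length R (mulKer g N3) ≠ ⊤ :=
      WithTop.add_ne_top.2 ⟨hfin N1 (hann.trans (f.annihilator_le_of_injective hf)),
        hfin N3 (hann.trans (h.annihilator_le_of_surjective hh))⟩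
    rw [genLen_add Q f h hf hh hfh]
    refine (ENat.add_le_add_iff_right hne).1 ?_
    rw [length_six g f h hf hh hfh]
    calc _ = Module.length R (mulKer g N2) + ((Module.length R (mulKer g N1) + genLen Q N1) +
          (Module.length R (mulKer g N3) + genLen Q N3)) := by ac_rfl
      _ ≤ _ := by gcongr

end Groth.Agent.SopLenLib
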