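import Mathlib
import Groth.Agent.SopLenLib.Chain
import Groth.Agent.SopLenLib.Count

/-!
# Top dimensional primes are bounded by the colength of a parameter ideal
-/

set_option autoImplicit false
set_option maxHeartbeats 1000000
set_option backward.isDefEq.respectTransparency false
universe u

noncomputable section

namespace Groth.Agent.SopLenLib

open IsLocalRing

theorem length_map_le_localized {R : Type u} [CommRing R] (J : Ideal R) (q : Ideal R) [q.IsPrime] :
    Module.length (Localization.AtPrime q) (Localization.AtPrime q ⧸ J.map (algebraMap R (Localization.AtPrime q))) ≤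
      Module.length (Localization.AtPrime q) (LocalizedModule q.primeCompl (R ⧸ J)) := by
  let Rq := Localization.AtPrime q
  let N := Rq ⧸ J.map (algebraMap R Rq)
  let φ : (R ⧸ J) →ₗ[R] N := Submodule.liftQ J (LinearMap.toSpanSingleton R N 1) fun a ha => by
    show Submodule.Quotient.mk (a • (1 : Rq)) = (0 : N)
    rw [Submodule.Quotient.mk_eq_zero, Algebra.smul_def, mul_one]
    exact Ideal.mem_map_of_mem _ ha
  have hu : ∀ x : q.primeCompl, IsUnit (algebraMap R (Module.End R N) x) := fun x =>
    by
      rw [Module.End.isUnit_iff]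
      obtain ⟨u, hu⟩ := IsLocalization.map_units Rq x
      have : (fun n : N => (algebraMap R (Module.End R N) x) n) = fun n => (u : Rq) • n := funext fun n => by
        show (x : R) • n = _
        rw [hu, algebraMap_smul]
      show Function.Bijective fun n : N => (algebraMap R (Module.End R N) x) n
      rw [this]
      exact MulAction.bijective u
  let ψ : LocalizedModule q.primeCompl (R ⧸ J) →ₗ[Rq] N :=
    LinearMap.extendScalarsOfIsLocalization q.primeCompl Rq (LocalizedModule.lift q.primeCompl φ hu)
  refine Module.length_le_of_surjective ψ fun y => ?_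
  obtain ⟨y, rfl⟩ := Ideal.Quotient.mk_surjective y
  obtain ⟨a, t, rfl⟩ := IsLocalization.exists_mk'_eq q.primeCompl y
  refine ⟨IsLocalization.mk' Rq a t • LocalizedModule.mkLinearMap q.primeCompl (R ⧸ J) (Submodule.Quotient.mk (p := J) (1 : R)), ?_⟩
  rw [map_smul]
  have h1 : ψ (LocalizedModule.mkLinearMap q.primeCompl (R ⧸ J) (Submodule.Quotient.mk (p := J) (1 : R))) = 1 := by
    show LocalizedModule.lift q.primeCompl φ hu (LocalizedModule.mkLinearMap q.primeCompl (R ⧸ J) _) = 1
    rw [← LinearMap.comp_apply, LocalizedModule.lift_comp]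
    exact one_smul R (1 : N)
  rw [h1]
  show Submodule.Quotient.mk (IsLocalization.mk' Rq a t • (1 : Rq)) = _
  rw [smul_eq_mul, mul_one]
  rfl

/-- The number of primes of dimension at least `d` is at most the colength of `d` parameters. -/
theorem card_le_length : ∀ (d : ℕ) (R : Type u) [CommRing R] [IsNoetherianRing R] [IsLocalRing R] (g : Fin d → R),
    (∀ i, g i ∈ maximalIdeal R) → maximalIdeal R ≤ (Ideal.span (Set.range g)).radical →
    ∀ s : Finset (PrimeSpectrum R), (∀ p ∈ s, (d : WithBot ℕ∞) ≤ ringKrullDim (R ⧸ p.asIdeal)) →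
      (s.card : ℕ∞) ≤ Module.length R (R ⧸ Ideal.span (Set.range g))
  | 0, R, _, _, _, g, _, hsop, s, _ => by
    have hmax : ∀ p : PrimeSpectrum R, p.asIdeal = maximalIdeal R := fun p => le_antisymm (maximalIdeal_ge p)
      (hsop.trans ((Ideal.IsPrime.radical_le_iff p.isPrime).2 (by simp [Set.range_eq_empty])))
    have h1 : s.card ≤ 1 := Finset.card_le_one.2 fun p _ p' _ => PrimeSpectrum.ext ((hmax p).trans (hmax p').symm)
    haveI : Nontrivial (R ⧸ Ideal.span (Set.range g)) := Ideal.Quotient.nontrivial_iff.2 (by
      simp [Set.range_eq_empty])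
    exact (Nat.cast_le.2 h1).trans (by rw [Nat.cast_one]; exact Order.one_le_iff_pos.2 Module.length_pos)
  | d + 1, R, _, _, _, g, hg, hsop, s, hs => by
    classical
    let J := Ideal.span (Set.range (Fin.tail g))
    have hJm : J ≤ maximalIdeal R := Ideal.span_le.2 (Set.range_subset_iff.2 fun i => hg i.succ)
    have hJg : Ideal.span (Set.range g) ≤ J ⊔ Ideal.span {g 0} := by
      rw [Ideal.span_le]
      rintro x ⟨i, rfl⟩
      exact Fin.cases (Ideal.mem_sup_right (Ideal.subset_span rfl))
        (fun j => Ideal.mem_sup_left (Ideal.subset_span ⟨j, rfl⟩)) i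
    have hJrad : maximalIdeal R ≤ (J ⊔ Ideal.span {g 0}).radical := hsop.trans (Ideal.radical_mono hJg)
    have hcons : Ideal.span (Set.range g) ≤ Ideal.span (Set.range (Fin.cons (g 0) (Fin.tail g) : Fin (d + 1) → R)) := by
      rw [Fin.cons_self_tail]
    have hch : ∀ p : {p // p ∈ s}, ∃ l : LTSeries (PrimeSpectrum R), l.length = d ∧ l.head = p.1 ∧
        l.last.asIdeal ≠ maximalIdeal R ∧ ∀ i, Fin.tail g i ∈ l.last.asIdeal := fun p =>
      exists_chain d p.1 (g 0) (Fin.tail g) (hg 0) (fun i => hg i.succ)
        (hsop.trans (Ideal.radical_mono (hcons.trans le_sup_right))) (hs p.1 p.2)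
    choose l hl hhead hlast hmem using hch
    let Q : Finset (PrimeSpectrum R) := (Finset.univ : Finset {p // p ∈ s}).image fun p => (l p).last
    have hQm : ∀ q ∈ Q, q.asIdeal ≠ maximalIdeal R := fun q hq => by
      obtain ⟨p, -, rfl⟩ := Finset.mem_image.1 hq
      exact hlast p
    have hQJ : ∀ q ∈ Q, J ≤ q.asIdeal := fun q hq => by
      obtain ⟨p, -, rfl⟩ := Finset.mem_image.1 hq
      exact Ideal.span_le.2 (Set.range_subset_iff.2 (hmem p))
    have hQ' : ∀ q ∈ Q, ∀ P : PrimeSpectrum R, J ≤ P.asIdeal → P ≤ q → P = q := fun q hq P hJP hPq => by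
      by_contra hne
      let m : PrimeSpectrum R := ⟨maximalIdeal R, inferInstance⟩
      let c : LTSeries (PrimeSpectrum R) := ((RelSeries.singleton _ m).cons q
        (show q < m from lt_of_le_of_ne (maximalIdeal_ge q) fun e => hQm q hq (congrArg PrimeSpectrum.asIdeal e))).cons P
          (show P < RelSeries.head _ from by rw [RelSeries.head_cons]; exact lt_of_le_of_ne hPq hne)
      have h2 := le_dim_quot_of_series J c (by rw [RelSeries.head_cons]; exact hJP)
      have hg0 : maximalIdeal R ≤ (J ⊔ Ideal.span (Set.range fun _ : Fin 1 => g 0)).radical := by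
        rw [Set.range_const]; exact hJrad
      have h3 := h2.trans (dim_quot_le J hJm (fun _ : Fin 1 => g 0) (fun _ => hg 0) hg0)
      rw [show c.length = 2 from rfl] at h3
      norm_cast at h3
    -- local counts
    have hloc : ∀ q ∈ Q, (((Finset.univ : Finset {p // p ∈ s}).filter fun p => (l p).last = q).card : ℕ∞) ≤
        Module.length (Localization.AtPrime q.asIdeal) (LocalizedModule q.asIdeal.primeCompl (R ⧸ J)) := fun q hq => by
      let Rq := Localization.AtPrime q.asIdeal
      haveI : IsNoetherianRing Rq := IsLocalization.isNoetherianRing q.asIdeal.primeCompl Rq inferInstance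
      let e := IsLocalization.AtPrime.primeSpectrumOrderIso Rq q.asIdeal
      let F := (Finset.univ : Finset {p // p ∈ s}).filter fun p => (l p).last = q
      have hle : ∀ p ∈ F, p.1 ≤ q := fun p hp => by
        rw [← (Finset.mem_filter.1 hp).2, ← hhead p]
        exact (l p).head_le (Fin.last _)
      let Φ : {p // p ∈ F} → PrimeSpectrum Rq := fun p => e.symm ⟨p.1.1, Set.mem_Iic.2 (hle p.1 p.2)⟩
      have hΦ : Function.Injective Φ := fun a b h =>
        Subtype.ext (Subtype.ext (congrArg (fun z : Set.Iic _ => z.1) (e.symm.injective h)))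
      let g' : Fin d → Rq := fun i => algebraMap R Rq (Fin.tail g i)
      have hspan : Ideal.span (Set.range g') = J.map (algebraMap R Rq) := by
        rw [Ideal.map_span, ← Set.range_comp]
        rfl
      have hg' : ∀ i, g' i ∈ maximalIdeal Rq := fun i =>
        (IsLocalization.AtPrime.to_map_mem_maximal_iff Rq q.asIdeal _).2 (hQJ q hq (Ideal.subset_span ⟨i, rfl⟩))
      have hsop' : maximalIdeal Rq ≤ (Ideal.span (Set.range g')).radical := by
        rw [hspan, Ideal.radical_eq_sInf]
        refine le_sInf fun P hP => ?_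
        have hP' : (e ⟨P, hP.2⟩).1 = q := hQ' q hq _
          (fun x hx => hP.1 (Ideal.mem_map_of_mem _ hx)) (e ⟨P, hP.2⟩).2
        rw [← Localization.AtPrime.map_eq_maximalIdeal, Ideal.map_le_iff_le_comap]
        intro x hx
        have : x ∈ (e ⟨P, hP.2⟩).1.asIdeal := by rw [hP']; exact hx
        exact this
      have hdim : ∀ P ∈ (Finset.univ : Finset {p // p ∈ F}).image Φ,
          (d : WithBot ℕ∞) ≤ ringKrullDim (Rq ⧸ P.asIdeal) := fun P hP => by
        obtain ⟨p, -, rfl⟩ := Finset.mem_image.1 hP
        have hq' : (l p.1).last = q := (Finset.mem_filter.1 p.2).2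
        have h1 := le_dim_localization_quot q p.1.1.asIdeal (l p.1) (hhead p.1).ge hq'
        rw [hl p.1] at h1
        refine h1.trans (ringKrullDim_le_of_surjective (Ideal.Quotient.factor ?_) (Ideal.Quotient.factor_surjective _))
        have hc : (Φ p).asIdeal.comap (algebraMap R Rq) = p.1.1.asIdeal := by
          show (e (e.symm _)).1.asIdeal = _
          rw [OrderIso.apply_symm_apply]
        rw [← hc, IsLocalization.map_comap q.asIdeal.primeCompl]
      have ih := card_le_length d Rq g' hg' hsop' _ hdim
      rw [Finset.card_image_of_injective _ hΦ, Finset.card_univ, Fintype.card_coe, hspan] at ih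
      exact ih.trans (length_map_le_localized J q.asIdeal)
    have hsum : (s.card : ℕ∞) ≤ genLen Q (R ⧸ J) := by
      have h1 : s.card = ∑ q ∈ Q, ((Finset.univ : Finset {p // p ∈ s}).filter fun p => (l p).last = q).card := by
        rw [← Finset.card_eq_sum_card_image, Finset.card_univ, Fintype.card_coe]
      rw [h1, Nat.cast_sum]
      exact Finset.sum_le_sum hloc
    have hgen := genLen_le (g 0) J (hg 0) hJrad Q hQm hQ' (R ⧸ J) (le_of_eq Ideal.annihilator_quotient.symm)
    refine (hsum.trans (le_add_self.trans hgen)).trans ?_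
    let π : R →ₗ[R] (R ⧸ J) ⧸ mulRange (g 0) (R ⧸ J) := (mulRange (g 0) (R ⧸ J)).mkQ.comp J.mkQ
    have hπ : Function.Surjective π := (Submodule.mkQ_surjective _).comp (Submodule.mkQ_surjective _)
    refine Module.length_le_of_surjective (Submodule.liftQ (Ideal.span (Set.range g)) π ?_)
      (fun y => (hπ y).elim fun x hx => ⟨Submodule.Quotient.mk x, hx⟩)
    refine hJg.trans (sup_le (fun x hx => ?_) ((Submodule.span_singleton_le_iff_mem _ _).2 ?_))
    · show Submodule.Quotient.mk (Submodule.Quotient.mk x) = 0
      rw [(Submodule.Quotient.mk_eq_zero J).2 hx, Submodule.Quotient.mk_zero]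
    · refine (Submodule.Quotient.mk_eq_zero _).2 ⟨Submodule.Quotient.mk 1, ?_⟩
      show g 0 • Submodule.Quotient.mk (p := J) (1 : R) = _
      rw [← Submodule.Quotient.mk_smul, smul_eq_mul, mul_one]
      rfl

end Groth.Agent.SopLenLib
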