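import Mathlib

/-!
# Lengths of quotients by powers of an ideal with `d` generators
-/

set_option autoImplicit false
universe u

noncomputable section

namespace Groth.Agent.SopLenLib

variable {R : Type u} [CommRing R] {d : ℕ} (g : Fin d → R)

/-- The product of a degree-`n` monomial in the generators. -/
def mon {n : ℕ} (s : Sym (Fin d) n) : R := ((s : Multiset (Fin d)).map g).prod

theorem pow_le_span_mon : ∀ n, Ideal.span (Set.range g) ^ n ≤ Ideal.span (Set.range (mon g (n := n)))
  | 0 => by
    rw [pow_zero, Ideal.one_eq_top, top_le_iff, Ideal.eq_top_iff_one]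
    exact Ideal.subset_span ⟨Sym.nil, by simp [mon]⟩
  | n + 1 => by
    refine (pow_succ' (Ideal.span (Set.range g)) n).le.trans ((Ideal.mul_mono le_rfl (pow_le_span_mon n)).trans ?_)
    rw [Ideal.span_mul_span, Ideal.span_le]
    rintro x hx
    obtain ⟨a, ⟨i, rfl⟩, b, ⟨s, rfl⟩, rfl⟩ := Set.mem_mul.1 hx
    exact Ideal.subset_span ⟨i ::ₛ s, show (Multiset.map g (i ::ₘ (s : Multiset (Fin d)))).prod = _ by rw [Multiset.map_cons, Multiset.prod_cons]; rfl⟩

theorem prod_map_mem : ∀ m : Multiset (Fin d), (m.map g).prod ∈ Ideal.span (Set.range g) ^ Multiset.card m := by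
  intro m
  induction m using Multiset.induction_on with
  | empty => simp [Ideal.one_eq_top]
  | cons i t ih =>
    rw [Multiset.map_cons, Multiset.prod_cons, Multiset.card_cons, pow_succ']
    exact Ideal.mul_mem_mul (Ideal.subset_span ⟨i, rfl⟩) ih

theorem mon_mem {n : ℕ} (s : Sym (Fin d) n) : mon g s ∈ Ideal.span (Set.range g) ^ n := by
  have h := prod_map_mem g (s : Multiset (Fin d))
  rwa [Sym.card_coe] at h

theorem length_quot_pow_succ_le (n : ℕ) :
    Module.length R (R ⧸ Ideal.span (Set.range g) ^ (n + 1)) ≤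
      Module.length R (R ⧸ Ideal.span (Set.range g) ^ n) +
        (d.multichoose n : ℕ∞) * Module.length R (R ⧸ Ideal.span (Set.range g)) := by
  classical
  set I := Ideal.span (Set.range g) with hI
  let φ : Sym (Fin d) n → ((R ⧸ I) →ₗ[R] (R ⧸ I ^ (n + 1))) := fun s =>
    Submodule.liftQ I (LinearMap.toSpanSingleton R _ (Submodule.Quotient.mk (mon g s))) fun a ha => by
      rw [LinearMap.mem_ker, LinearMap.toSpanSingleton_apply, ← Submodule.Quotient.mk_smul,
        Submodule.Quotient.mk_eq_zero, smul_eq_mul, pow_succ']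
      exact Ideal.mul_mem_mul ha (mon_mem g s)
  let Φ : (Sym (Fin d) n → R ⧸ I) →ₗ[R] (R ⧸ I ^ (n + 1)) := ∑ s, (φ s).comp (LinearMap.proj s)
  let π : (R ⧸ I ^ (n + 1)) →ₗ[R] (R ⧸ I ^ n) :=
    Submodule.mapQ _ _ LinearMap.id (Ideal.pow_le_pow_right (Nat.le_succ n))
  have hπ : Function.Surjective π := by
    intro y
    obtain ⟨a, rfl⟩ := Submodule.Quotient.mk_surjective _ y
    exact ⟨Submodule.Quotient.mk a, rfl⟩
  have hr : LinearMap.ker π ≤ LinearMap.range Φ := by
    intro x hx
    obtain ⟨a, rfl⟩ := Submodule.Quotient.mk_surjective _ x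
    have ha : a ∈ Ideal.span (Set.range (mon g (n := n))) := pow_le_span_mon g n
      ((Submodule.Quotient.mk_eq_zero _).1 hx)
    obtain ⟨c, rfl⟩ := Ideal.mem_span_range_iff_exists_fun.1 ha
    refine ⟨fun s => Submodule.Quotient.mk (c s), ?_⟩
    rw [LinearMap.sum_apply, ← Submodule.mkQ_apply, map_sum]
    refine Finset.sum_congr rfl fun s _ => ?_
    rfl
  rw [Module.length_eq_add_of_exact (LinearMap.ker π).subtype π (Submodule.subtype_injective _) hπ
    (LinearMap.exact_subtype_ker_map π), add_comm]
  gcongr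
  calc Module.length R ↥(LinearMap.ker π) ≤ Module.length R ↥(LinearMap.range Φ) :=
        Module.length_le_of_injective (Submodule.inclusion hr) (Submodule.inclusion_injective hr)
    _ ≤ Module.length R (Sym (Fin d) n → R ⧸ I) :=
        Module.length_le_of_surjective Φ.rangeRestrict (LinearMap.surjective_rangeRestrict Φ)
    _ = _ := by
      rw [Module.length_pi_of_fintype, Finset.sum_const, Finset.card_univ, Sym.card_sym_eq_multichoose,
        Fintype.card_fin, nsmul_eq_mul]

theorem length_quot_pow_succ_le_choose (n : ℕ) :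
    Module.length R (R ⧸ Ideal.span (Set.range g) ^ (n + 1)) ≤
      ((n + d).choose d : ℕ∞) * Module.length R (R ⧸ Ideal.span (Set.range g)) := by
  suffices h : ∀ m, Module.length R (R ⧸ Ideal.span (Set.range g) ^ m) ≤
      ((∑ i ∈ Finset.range m, d.multichoose i : ℕ) : ℕ∞) * Module.length R (R ⧸ Ideal.span (Set.range g)) by
    have := h (n + 1)
    rwa [Nat.sum_range_multichoose] at this
  intro m
  induction m with
  | zero =>
    haveI : Subsingleton (R ⧸ Ideal.span (Set.range g) ^ 0) := by
      rw [pow_zero, Ideal.one_eq_top]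
      exact Ideal.Quotient.subsingleton_iff.2 rfl
    simp [Module.length_eq_zero]
  | succ m ih =>
    refine (length_quot_pow_succ_le g m).trans ?_
    rw [Finset.sum_range_succ, Nat.cast_add, add_mul]
    gcongr

end Groth.Agent.SopLenLib
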